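import Cfsg.Agent.H680.Cov.SU6.Res_m3
import Cfsg.Agent.S0280
import Cfsg.Agent.S0815
import Cfsg.Agent.S0243
import Cfsg.Agent.S0813
import Cfsg.Agent.H183.OutPSL
import Cfsg.Agent.S5811
import Cfsg.Agent.S5812
import Cfsg.Agent.Prune
set_option linter.all false
prune_inst 0x7f00000000000000000000000000000000000000000000000000000000000000000000000000000000000000000000000000000000000000000000000000000000000000000000000000000000000000003fffffffffffffffffffffffffffbeffbdffffffff
open scoped Cfsg.Agent.FastGrp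

/-!
# S2499: `PSU_7(q)` is not a union of the conjugates of two proper subgroups (helper834, task 3952)

`noTwo_psu7`.
-/

set_option autoImplicit false
set_option linter.unusedSectionVars false

namespace Cfsg.Agent.H834.Cov

open Cfsg Cfsg.Geo Module Cfsg.Agent.H918 Cfsg.Agent.H251 Cfsg.Agent.H251.GeoCard Cfsg.Agent.H951
open Cfsg.Agent.H278.Cov
open Cfsg.Agent.LieClassical
open scoped Matrix MatrixGroups

section Aut

theorem card_psu3 {F : Type*} [Field F] [Fintype F] {q : ℕ} (hF : Fintype.card F = q ^ 2) :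
    Nat.gcd 3 (q + 1) * Nat.card (PSU 3 F q) = q ^ 3 * ((q ^ 2 - 1) * (q ^ 3 + 1)) := by
  have h := S0280.result (F := F) (q := q) hF 3 (by norm_num)
  simp only [Finset.prod_range_succ, Finset.prod_range_zero] at h
  rw [if_pos (by decide), if_neg (by decide), if_pos (by decide)] at h
  generalize Nat.card (PSU 3 F q) = N at h ⊢
  norm_num only [_root_.pow_one, _root_.one_mul] at h
  apply Nat.eq_of_mul_eq_mul_left (show 0 < q + 1 by omega)
  calc (q + 1) * (Nat.gcd 3 (q + 1) * N) = Nat.gcd 3 (q + 1) * ((q + 1) * N) := by ring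
    _ = _ := h
    _ = _ := by ring

/-- prime divisors of `|Aut(U_3(3))|` -/
theorem prime_aut_u33 {S : Type*} [Group S] {K : Type} [Field K] [Fintype K] (hK : Fintype.card K = 9)
    (e : S ≃* Cfsg.PSU 3 K 3) {s : ℕ} (hs : s.Prime) (h : s ∣ Nat.card (MulAut S)) : s ≤ 7 := by
  have hK' : Fintype.card K = 3 ^ 2 := by rw [hK]; norm_num
  have hf3 : Fact (Nat.Prime 3) := ⟨Nat.prime_three⟩
  rw [Nat.card_congr (MulAut.congr e).toEquiv, Cfsg.Agent.S0815.result (F := K) 3 1 le_rfl (q := 3) (by norm_num) hK' 3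
    le_rfl (by norm_num)] at h
  have hc := card_psu3 hK'
  have hg : Nat.gcd 3 (3 + 1) = 1 := by decide
  rw [hg, one_mul] at hc h
  rw [hc] at h
  have h2 : s ∣ 2 ^ 6 * 3 ^ 3 * 7 := by norm_num at h ⊢; exact h
  rcases hs.dvd_mul.1 h2 with h3 | h3
  · rcases hs.dvd_mul.1 h3 with h4 | h4
    · have := Nat.le_of_dvd (by norm_num) (hs.dvd_of_dvd_pow h4); omega
    · have := Nat.le_of_dvd (by norm_num) (hs.dvd_of_dvd_pow h4); omega
  · exact Nat.le_of_dvd (by norm_num) h3

/-- prime divisors of `|Aut(L_3(4))|` -/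
theorem prime_aut_l34 {S : Type*} [Group S] {K : Type} [Field K] [Fintype K] (hK : Fintype.card K = 4)
    (e : S ≃* Matrix.ProjectiveSpecialLinearGroup (Fin 3) K) {s : ℕ} (hs : s.Prime)
    (h : s ∣ Nat.card (MulAut S)) : s ≤ 7 := by
  have hf2 : Fact (Nat.Prime 2) := ⟨Nat.prime_two⟩
  have h1 := S0813.result (F := K) 2 2 (by norm_num) (by rw [hK]; norm_num) 3 (by norm_num) (by norm_num)
  rw [H183.OutPSL.card_pgl_eq (by norm_num), hK] at h1
  have hc := Cfsg.Agent.S0243.result (F := K) (q := 4) hK 3 (by norm_num)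
  rw [Fin.prod_univ_three] at hc
  rw [Nat.card_congr (MulAut.congr e).toEquiv, h1] at h
  generalize Nat.card (Matrix.ProjectiveSpecialLinearGroup (Fin 3) K) = N at h hc
  norm_num only [_root_.Fin.coe_ofNat_eq_mod, _root_.pow_zero, _root_.Nat.add_one_sub_one, _root_.pow_one, _root_.ite_false] at hc h
  have hN : N = 20160 := by omega
  subst hN
  have h2 : s ∣ 2 ^ 8 * 3 ^ 3 * (5 * 7) := by norm_num at h ⊢; exact h
  rcases hs.dvd_mul.1 h2 with h3 | h3
  · rcases hs.dvd_mul.1 h3 with h4 | h4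
    · have := Nat.le_of_dvd (by norm_num) (hs.dvd_of_dvd_pow h4); omega
    · have := Nat.le_of_dvd (by norm_num) (hs.dvd_of_dvd_pow h4); omega
  · rcases hs.dvd_mul.1 h3 with h4 | h4
    · have := Nat.le_of_dvd (by norm_num) h4; omega
    · exact Nat.le_of_dvd (by norm_num) h4

end Aut

section Common

variable {F : Type*} [Field F] [Fintype F] {n q : ℕ}

theorem not_dvd_pred {s m : ℕ} (hF : Fintype.card F = q ^ 2) (hord : orderOf (-(q : ZMod s)) = m)
    (hm : 3 ≤ m) : ¬ s ∣ Nat.card F - 1 := by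
  intro h
  have h1 : _root_.Cfsg.Agent.H251.GeoCard.Div s (q ^ 2) 1 := div_one le_rfl (by rwa [← GeoU.nat_card_eq hF])
  have h2 := GeoU.ord_le_of_div (Nat.one_le_pow _ _ (LieClassical.HermBasic.q_pos hF)) h1
  rw [GeoU.ord_sq, hord] at h2
  have h3 : Nat.gcd m 2 ≤ 2 := Nat.le_of_dvd (by norm_num) (Nat.gcd_dvd_right _ _)
  have h4 : 0 < Nat.gcd m 2 := Nat.gcd_pos_of_pos_right _ (by norm_num)
  have h5 : m < 2 * Nat.gcd m 2 := by
    have := (Nat.div_lt_iff_lt_mul h4).1 (show m / Nat.gcd m 2 < 2 by omega)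
    exact this
  obtain ⟨c, hc⟩ : Nat.gcd m 2 ∣ m := Nat.gcd_dvd_left _ _
  generalize Nat.gcd m 2 = d at h3 h4 h5 hc
  interval_cases d <;> omega

theorem dvd_card_of_mem {H : Subgroup (GL (Fin n) F)} {x : GL (Fin n) F} (hx : x ∈ H) {s : ℕ}
    (h : s ∣ orderOf x) : s ∣ Nat.card H := by
  refine h.trans ?_
  rw [← Subgroup.orderOf_mk x hx]
  exact orderOf_dvd_natCard _

theorem inv_of_le {H : Subgroup (GL (Fin n) F)} {W : Submodule F (Fin n → F)} (hH : H ≤ subspaceStabilizer W)
    {x : GL (Fin n) F} (hx : x ∈ H) : _root_.Cfsg.Agent.H951.Inv (Matrix.toLin' (x : Matrix (Fin n) (Fin n) F)) W :=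
  GeoU.inv_of_mem (hH hx)

/-- a power of prime order -/
theorem exists_pow_order {x : GL (Fin n) F} {s : ℕ} (h : s ∣ orderOf x) : orderOf (x ^ (orderOf x / s)) = s := by
  have hfG : Finite (GL (Fin n) F) := inferInstance
  have h0 : orderOf x ≠ 0 := (orderOf_pos x).ne'
  exact orderOf_pow_orderOf_div h0 h

theorem inv_pow {x : GL (Fin n) F} {W : Submodule F (Fin n → F)}
    (hW : _root_.Cfsg.Agent.H951.Inv (Matrix.toLin' (x : Matrix (Fin n) (Fin n) F)) W) (k : ℕ) :
    _root_.Cfsg.Agent.H951.Inv (Matrix.toLin' ((x ^ k : GL (Fin n) F) : Matrix (Fin n) (Fin n) F)) W := by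
  rw [GeoCard.toLin_pow]
  induction k with
  | zero => intro w hw; exact hw
  | succ k ih =>
    intro w hw
    rw [pow_succ', Module.End.mul_apply]
    exact hW _ (ih w hw)

/-- invariant nondegenerate subspaces of dimension two of an element without eigenvectors, `n = 7` -/
theorem no_inv_two (hF : Fintype.card F = q ^ 2) {r : ℕ} (hr : r.Prime) (hord : orderOf (-(q : ZMod r)) = 4)
    {g : GL (Fin 7) F} (hg : g ∈ SUg 7 F q) (hdvd : r ∣ orderOf g)
    (hNo : NoEig (g : Matrix (Fin 7) (Fin 7) F)) {W : Submodule F (Fin 7 → F)}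
    (hW : _root_.Cfsg.Agent.H951.Inv (Matrix.toLin' (g : Matrix (Fin 7) (Fin 7) F)) W) (hnd : Nd (hermForm 7 F q) W)
    (h2 : finrank F W = 2) : False := by
  have hfr := Fact.mk hr
  have hrq := GeoU.not_dvd_of_ord hr hord (by norm_num)
  have hrF := GeoU.natCast_ne hF hr hrq
  have hB := H950.frm_herm hF 7
  set y := g ^ (orderOf g / r) with hy
  have hyo : orderOf y = r := exists_pow_order hdvd
  have hyS : y ∈ SUg 7 F q := Subgroup.pow_mem _ hg _
  set x := Matrix.toLin' (y : Matrix (Fin 7) (Fin 7) F) with hx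
  set z := Matrix.toLin' (g : Matrix (Fin 7) (Fin 7) F) with hz
  have hxi : Isom (hermForm 7 F q) x := isom_of_mem hyS
  have hzi : Isom (hermForm 7 F q) z := isom_of_mem hg
  have hxr : x ^ r = 1 := toLin_pow_eq hyo
  have hx1 : x ≠ 1 := toLin_ne hr hyo
  have hWx : _root_.Cfsg.Agent.H951.Inv x W := inv_pow hW _
  have htop := H950.nd_top hF 7
  -- `dim [V, x] = 4`
  have hcm := H950.ord_neg_dvd hF hrq hxi hxr inv_cm (hxi.nd_cm hB hrF hxr htop) (by
    rw [inf_comm]; exact (isCompl_fx_cm hrF hxr).inf_eq_bot)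
  rw [hord] at hcm
  have hsum := finrank_fx_cm hrF hxr
  rw [finrank_fintype_fun_eq_card, Fintype.card_fin] at hsum
  have hpos : 0 < finrank F ↥(cm x) := by
    rw [Nat.pos_iff_ne_zero, Ne, Submodule.finrank_eq_zero]
    intro h4
    apply hx1
    apply LinearMap.ext
    intro v
    have h5 : x v - v ∈ cm x := mem_cm.2 ⟨v, rfl⟩
    rw [h4, Submodule.mem_bot, sub_eq_zero] at h5
    exact h5
  have hfx : finrank F ↥(fx x) = 3 := by
    obtain ⟨c, hc⟩ := hcm
    omega
  -- `W ≤ fx x`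
  have hWc : finrank F ↥(W ⊓ cm x) = 0 := by
    have h3 := H950.ord_neg_dvd hF hrq hxi hxr (hWx.inf inv_cm) (hxi.nd_inf_cm hB hrF hxr hWx hnd)
      (inf_fx_of_le_cm hrF hxr inf_le_right)
    rw [hord] at h3
    have h4 : finrank F ↥(W ⊓ cm x) ≤ finrank F W := Submodule.finrank_mono inf_le_left
    obtain ⟨c, hc⟩ := h3
    omega
  have h5 := finrank_inf_add hrF hxr hWx
  have hWf : W ≤ fx x := by
    have h6 : W ⊓ fx x = W := Submodule.eq_of_le_of_finrank_eq inf_le_left (by omega)
    rw [← h6]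
    exact inf_le_right
  -- the orthogonal complement
  have h6 := hB.finrank_perp_inf hnd hWf
  have hzinj : Function.Injective z := by
    intro u v huv
    have h7 := congrArg (Matrix.toLin' ((g⁻¹ : GL (Fin 7) F) : Matrix (Fin 7) (Fin 7) F)) huv
    rw [hz, Matrix.toLin'_apply, Matrix.toLin'_apply, Matrix.toLin'_apply, Matrix.toLin'_apply, Matrix.mulVec_mulVec,
      Matrix.mulVec_mulVec, ← Units.val_mul, inv_mul_cancel, Units.val_one, Matrix.one_mulVec, Matrix.one_mulVec] at h7
    exact h7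
  have hinvp : _root_.Cfsg.Agent.H951.Inv z (hB.perp W) := hzi.inv_perp hB hzinj hW
  have hinvf : _root_.Cfsg.Agent.H951.Inv z (fx x) := by
    intro v hv
    rw [mem_fx] at hv ⊢
    have h8 : x * z = z * x := by
      rw [hx, hz, hy, GeoCard.toLin_pow]
      exact (Commute.refl _).pow_left _
    calc x (z v) = (x * z) v := rfl
      _ = (z * x) v := by rw [h8]
      _ = z (x v) := rfl
      _ = z v := by rw [hv]
  exact hNo.not_inv (hinvp.inf hinvf) (by omega)

/-- extension fields of degree 7 in dimension 7 -/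
theorem ext_kill (hF : Fintype.card F = q ^ 2) {s m : ℕ} (hs : s.Prime) (hord : orderOf (-(q : ZMod s)) = m)
    (hm : m = 4 ∨ m = 5) {K : Subalgebra F (Matrix (Fin 7) (Fin 7) F)} (hK : IsFieldSubalgebra 7 K)
    (h : s ∣ Nat.card (subalgebraNormalizer K)) : False := by
  have hm1 : 1 ≤ m := by omega
  have hsq := GeoU.not_dvd_of_ord hs hord hm1
  rcases extension (by norm_num) hK hs (GeoU.not_dvd_card hF hs hsq) h with h1 | h1
  · have h2 := GeoU.dvd_pred_of_ord hs hord hm1
    rw [h1] at h2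
    rcases hm with rfl | rfl
    · revert h2; decide
    · revert h2; decide
  · rw [GeoU.nat_card_eq hF, Fintype.card_fin] at h1
    have h2 := GeoU.ord_le_of_div (Nat.one_le_pow _ _ (Nat.one_le_pow _ _ (LieClassical.HermBasic.q_pos hF))) h1
    have h4 : (((q ^ 2) ^ 7 : ℕ) : ZMod s) = ((q ^ 2 : ℕ) : ZMod s) ^ 7 := by push_cast; rfl
    rw [h4, orderOf_pow' _ (by norm_num), GeoU.ord_sq, hord] at h2
    rcases hm with rfl | rfl
    · revert h2; decide
    · revert h2; decide

end Common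

/-- **`PSU_7(q)`** -/
theorem noTwo_psu7 {q : ℕ} {F : Type} [Field F] [Fintype F] (hF : Fintype.card F = q ^ 2) : NoTwo (PSU 7 F q) := by
  classical
  obtain ⟨p, f, hp, hf, hq, hpF⟩ := GeoU.exists_prime_power hF
  -- the three primes
  obtain ⟨s, hs, hsiff, hs1, hsord⟩ := GeoU.exists_big (m := 7) hp hf (by norm_num) (by decide) (by
    rintro ⟨h, -⟩; omega)
  obtain ⟨t, ht, htiff, ht1, htord⟩ := GeoU.exists_big (m := 5) hp hf (by norm_num) (by decide) (by
    rintro ⟨h, -⟩; omega)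
  obtain ⟨r, hr, hrord, -, -, -⟩ := H149.NegPrime.exists_neg_prime (i := 4) hp hq hf (by norm_num) (by
    rintro ⟨h, -⟩; omega)
  rw [← hq] at hsord htord
  have hs15 : 14 < s := by
    have h1 := Nat.le_of_dvd (by have := hs.two_le; omega) hs1
    have h2 : 2 * 7 * 1 ≤ 2 * 7 * f := Nat.mul_le_mul_left _ hf
    omega
  have ht11 : 10 < t := by
    have h1 := Nat.le_of_dvd (by have := ht.two_le; omega) ht1
    have h2 : 2 * 5 * 1 ≤ 2 * 5 * f := Nat.mul_le_mul_left _ hf
    omega
  have hfs := Fact.mk hs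
  have hft := Fact.mk ht
  have hfr := Fact.mk hr
  -- the elements
  obtain ⟨a, ha, hao⟩ := exists_prime_elt (n := 7) hF (by norm_num) hs (by norm_num) le_rfl hsord
  obtain ⟨b, hb, hbo⟩ := exists_prime_elt (n := 7) hF (by norm_num) ht (by norm_num) (by norm_num) htord
  obtain ⟨c₂, hc₂, hc₂o⟩ := exists_prime_elt (n := 4) hF (by norm_num) hr (by norm_num) le_rfl hrord
  have hrq1 : ¬ r ∣ q + 1 := by
    intro h
    have h1 : ((q + 1 : ℕ) : ZMod r) = 0 := (ZMod.natCast_eq_zero_iff _ _).2 h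
    have h2 : -(q : ZMod r) = 1 := by
      push_cast at h1
      linear_combination -h1
    rw [h2, orderOf_one] at hrord
    omega
  have hc₂N : NoEig (c₂ : Matrix (Fin 4) (Fin 4) F) := by
    refine noEig_of_prime hF hr hrord (by norm_num) ?_ hc₂ hc₂o
    rw [GeoU.ord_sq_even hrord (by decide)]
    norm_num
  obtain ⟨c, hc, hcN, hco⟩ := exists_three_blk (n := 7) hF (Or.inl rfl) rfl hc₂ hc₂N hr hc₂o hrq1
  have hTA : ∀ H, IsMaximalIn (SUg 7 F q) H → ∀ x ∈ H, orderOf x = s →
      ∃ K : Subalgebra F (Matrix (Fin 7) (Fin 7) F), IsFieldSubalgebra 7 K ∧ H ≤ subalgebraNormalizer K := by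
    intro H hH x hx hxo
    have hsH : s ∣ Nat.card H := dvd_card_of_mem hx (by rw [hxo])
    rcases Cfsg.Agent.S5811.result q hF H hH with h | h | h | h | h | h | h | h
    · obtain ⟨W, hW0, hW, rfl⟩ := h
      exact (GeoU.kill_ts hF hs hsord (by decide) (by norm_num) (by norm_num) hW0 hW
        (hsH.trans (Subgroup.card_dvd_of_le (inf_le_inf_left _ inf_le_left)))).elim
    · obtain ⟨W, hW0, hW, hW2, rfl⟩ := h
      have := GeoU.kill_nd hF hs hsord (by decide) (by norm_num) (by norm_num) hW0 hW2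
        (hsH.trans (Subgroup.card_dvd_of_le (inf_le_inf_left _ inf_le_left)))
      omega
    · obtain ⟨D, hD, rfl⟩ := h
      exact (decomp_kill hF hs hsord (by decide) (by norm_num) (by omega) (by norm_num) hD.decomp (GeoU.dvd_left hsH)).elim
    · obtain ⟨K, hK, -, rfl⟩ := h
      exact ⟨K, hK, inf_le_left⟩
    · obtain ⟨F₀, r', P, hr', hro, hcd, -, rfl⟩ := h
      exact (subfield_kill hF hp hq hf hs hsiff hsord (by decide) (by norm_num) (by norm_num) hr'.two_le hcd
        (GeoU.dvd_left hsH)).elim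
    · obtain ⟨-, F₀, P, hcd, -, rfl⟩ := h
      exact (subfield_kill hF hp hq hf hs hsiff hsord (by decide) (by norm_num) (by norm_num) le_rfl hcd
        (GeoU.dvd_left hsH)).elim
    · obtain ⟨p', R, -, -, -, hR, habs, -, hRc, hRz, rfl⟩ := h
      refine (symp_kill (k := 1) hF hs hsord (by decide) (by norm_num) (by norm_num) (by omega) hR habs
        (Or.inl ⟨by decide, hRz, by rw [hRc]; norm_num⟩) (GeoU.dvd_left hsH)).elim
    · obtain ⟨P, hP, -, -, -, K, i1, i2, hK, ⟨e⟩⟩ := Cfsg.Agent.S5812.result q hF H hH h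
      have h1 := core_dvd (by norm_num) hP hs (not_dvd_pred hF hsord (by norm_num)) hx hxo
      have := prime_aut_u33 hK e hs h1
      omega
  refine noTwo_psu_of (a := a) (b := b) (c := c) ha hb hc (PA := fun x => orderOf x = s)
    (PB := fun x => x ∈ SUg 7 F q ∧ orderOf x = t)
    (PC := fun x => x ∈ SUg 7 F q ∧ NoEig (x : Matrix (Fin 7) (Fin 7) F) ∧ r ∣ orderOf x)
    (TA := fun H => ∃ K : Subalgebra F (Matrix (Fin 7) (Fin 7) F), IsFieldSubalgebra 7 K ∧
      H ≤ subalgebraNormalizer K)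
    (TB := fun H => ∃ W : Submodule F (Fin 7 → F), (finrank F W = 1 ∨ (finrank F W = 2 ∧ Nd (hermForm 7 F q) W)) ∧
      H ≤ subspaceStabilizer W)
    ?_ ?_ ?_ hao ⟨hb, hbo⟩ ⟨hc, hcN, hco⟩ ?_ ?_ ?_ ?_ ?_
  · intro g hg x hx
    rw [← hx]
    exact orderOf_injective (MulAut.conj g).toMonoidHom (MulAut.conj g).injective x
  · intro g hg x hx
    refine ⟨Subgroup.mul_mem _ (Subgroup.mul_mem _ hg hx.1) (Subgroup.inv_mem _ hg), ?_⟩
    rw [← hx.2]
    exact orderOf_injective (MulAut.conj g).toMonoidHom (MulAut.conj g).injective x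
  · intro g hg x hx
    refine ⟨Subgroup.mul_mem _ (Subgroup.mul_mem _ hg hx.1) (Subgroup.inv_mem _ hg), hx.2.1.conj g, ?_⟩
    have : orderOf (g * x * g⁻¹) = orderOf x :=
      orderOf_injective (MulAut.conj g).toMonoidHom (MulAut.conj g).injective x
    rw [this]
    exact hx.2.2
  · exact hTA
  · -- overgroups of `b`
    intro H hH x hx hxo
    obtain ⟨hxS, hxo⟩ := hxo
    have htH : t ∣ Nat.card H := dvd_card_of_mem hx (by rw [hxo])
    have hfix := fix_le hF ht htord (by norm_num) hxS hxo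
    have htF := GeoU.natCast_ne hF ht (GeoU.not_dvd_of_ord ht htord (by norm_num))
    have hndf : Nd (hermForm 7 F q) (fx (Matrix.toLin' (x : Matrix (Fin 7) (Fin 7) F))) :=
      (isom_of_mem hxS).nd_fx (H950.frm_herm hF 7) htF (toLin_pow_eq hxo) (H950.nd_top hF 7)
    have hle : ∀ W : Submodule F (Fin 7 → F), H ≤ subspaceStabilizer W → finrank F W < 5 →
        W ≤ fx (Matrix.toLin' (x : Matrix (Fin 7) (Fin 7) F)) := by
      intro W hW h3
      refine le_fx hF ht htord (by norm_num) hxo (inv_of_le hW hx) ?_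
      rw [GeoU.ord_sq_odd htord (by decide)]
      exact h3
    rcases Cfsg.Agent.S5811.result q hF H hH with h | h | h | h | h | h | h | h
    · obtain ⟨W, hW0, hW, rfl⟩ := h
      have h2 : 2 * finrank F W ≤ 7 := by
        have h3 := (H950.frm_herm hF 7).two_mul_finrank_le (H950.nd_top hF 7) le_top (W := W) hW
        rwa [finrank_top, finrank_fintype_fun_eq_card, Fintype.card_fin] at h3
      have h3 := hle W inf_le_left (by omega)
      have h4 := (H950.frm_herm hF 7).two_mul_finrank_le hndf h3 hW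
      have hpos : 0 < finrank F W := by
        rw [Nat.pos_iff_ne_zero, Ne, Submodule.finrank_eq_zero]
        exact hW0
      exact ⟨W, Or.inl (by omega), inf_le_left⟩
    · obtain ⟨W, hW0, hW, hW2, rfl⟩ := h
      have h3 := hle W inf_le_left (by omega)
      have h4 := Submodule.finrank_mono h3
      have hpos : 0 < finrank F W := by
        rw [Nat.pos_iff_ne_zero, Ne, Submodule.finrank_eq_zero]
        exact hW0
      have h5 : finrank F W = 1 ∨ finrank F W = 2 := by (clear * - hfix h4 hpos; omega)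
      rcases h5 with h5 | h5
      · exact ⟨W, Or.inl h5, inf_le_left⟩
      · exact ⟨W, Or.inr ⟨h5, fun u hu hu0 => (hW u hu hu0).2⟩, inf_le_left⟩
    · obtain ⟨D, hD, rfl⟩ := h
      exact (decomp_kill hF ht htord (by decide) (by norm_num) (by omega) (by norm_num) hD.decomp (GeoU.dvd_left htH)).elim
    · obtain ⟨K, hK, -, rfl⟩ := h
      exact (ext_kill hF ht htord (Or.inr rfl) hK (GeoU.dvd_left htH)).elim
    · obtain ⟨F₀, r', P, hr', hro, hcd, -, rfl⟩ := h
      exact (subfield_kill hF hp hq hf ht htiff htord (by decide) (by norm_num) (by norm_num) hr'.two_le hcd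
        (GeoU.dvd_left htH)).elim
    · obtain ⟨-, F₀, P, hcd, -, rfl⟩ := h
      exact (subfield_kill hF hp hq hf ht htiff htord (by decide) (by norm_num) (by norm_num) le_rfl hcd
        (GeoU.dvd_left htH)).elim
    · obtain ⟨p', R, -, -, -, hR, habs, -, hRc, hRz, rfl⟩ := h
      refine (symp_kill (k := 1) hF ht htord (by decide) (by norm_num) (by norm_num) (by omega) hR habs
        (Or.inl ⟨by decide, hRz, by rw [hRc]; norm_num⟩) (GeoU.dvd_left htH)).elim
    · obtain ⟨P, hP, -, -, -, K, i1, i2, hK, ⟨e⟩⟩ := Cfsg.Agent.S5812.result q hF H hH h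
      have h1 := core_dvd (by norm_num) hP ht (not_dvd_pred hF htord (by norm_num)) hx hxo
      have := prime_aut_u33 hK e ht h1
      omega
  · intro H hH x hx hxo y hy hyo
    obtain ⟨K, hK, hHK⟩ := hTA H hH x hx hxo
    exact ext_kill hF ht htord (Or.inr rfl) hK
      ((dvd_card_of_mem hy (by rw [hyo.2])).trans (Subgroup.card_dvd_of_le hHK))
  · -- `c` is not in the field groups
    rintro H ⟨K, hK, hHK⟩ x hx ⟨-, -, hxo⟩
    exact ext_kill hF hr hrord (Or.inl rfl) hK ((dvd_card_of_mem hx hxo).trans (Subgroup.card_dvd_of_le hHK))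
  · -- `c` is not in the stabilisers
    rintro H ⟨W, hW, hHW⟩ x hx ⟨hxS, hxN, hxo⟩
    rcases hW with h1 | ⟨h2, hnd⟩
    · exact hxN.not_inv (inv_of_le hHW hx) h1
    · exact no_inv_two hF hr hrord hxS hxo hxN (inv_of_le hHW hx) hnd h2

end Cfsg.Agent.H834.Cov
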